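import Groth.Agent.Lib.SemiLoc.MinPrimes
import Groth.Prelude.Def_Found
import Mathlib.RingTheory.IntegralClosure.IsIntegralClosure.Basic
import Mathlib.RingTheory.IntegralClosure.IntegrallyClosed
import Mathlib.RingTheory.Localization.FractionRing
import Mathlib.RingTheory.Localization.LocalizationLocalization
import Mathlib.RingTheory.Noetherian.Basic
import Mathlib.RingTheory.Finiteness.Prod

/-!
The total fraction ring of a reduced Noetherian ring, and its integral closure there.
-/

universe u

open GrothLib.SemiLoc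

namespace GrothLib.RedTotal

variable (A : Type u) [CommRing A]

/-- The field at a minimal prime. -/
abbrev Kf (p : MinIdx A) : Type u := FractionRing (A ⧸ p.1.asIdeal)

/-- The integral closure in the field at a minimal prime. -/
abbrev Cp (p : MinIdx A) : Type u := integralClosure A (Kf A p)

variable {A}

theorem algebraMap_Kf_eq_zero_iff (p : MinIdx A) (a : A) :
    algebraMap A (Kf A p) a = 0 ↔ a ∈ p.1.asIdeal := by
  rw [IsScalarTower.algebraMap_apply A (A ⧸ p.1.asIdeal) (Kf A p), map_eq_zero_iff _ (IsFractionRing.injective _ _)]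
  exact Ideal.Quotient.eq_zero_iff_mem

variable [IsReduced A]

theorem eq_zero_of_forall_mem {a : A} (h : ∀ p : MinIdx A, a ∈ p.1.asIdeal) : a = 0 := by
  refine IsNilpotent.eq_zero ?_
  rw [← mem_nilradical, nilradical, ← Ideal.sInf_minimalPrimes, Submodule.mem_sInf]
  exact fun p hp => h ⟨⟨p, hp.1.1⟩, hp⟩

theorem mem_nonZeroDivisors_iff {s : A} :
    s ∈ nonZeroDivisors A ↔ ∀ p : MinIdx A, s ∉ p.1.asIdeal := by
  refine ⟨fun hs p hp => notMem_nonZeroDivisors_of_mem_mem_minimalPrimes hp p.2 hs, fun h => ?_⟩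
  rw [mem_nonZeroDivisors_iff_right]
  exact fun y hy => eq_zero_of_forall_mem fun p => (p.1.isPrime.mem_or_mem (hy ▸ p.1.asIdeal.zero_mem : y * s ∈ _)).resolve_right (h p)

variable (A) in
/-- The map to the product of fields. -/
noncomputable def ψ : FractionRing A →ₐ[A] ∀ p : MinIdx A, Kf A p :=
  IsLocalization.liftAlgHom (M := nonZeroDivisors A) (f := Algebra.ofId A (∀ p : MinIdx A, Kf A p))
    fun s => Pi.isUnit_iff.mpr fun p => isUnit_iff_ne_zero.mpr fun h =>
      mem_nonZeroDivisors_iff.mp s.2 p ((algebraMap_Kf_eq_zero_iff p _).mp h)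

theorem ψ_injective : Function.Injective (ψ A) := by
  rw [injective_iff_map_eq_zero]
  intro w hw
  obtain ⟨⟨a, s⟩, hs⟩ := IsLocalization.surj (nonZeroDivisors A) w
  have ha : a = 0 := eq_zero_of_forall_mem fun p => by
    rw [← algebraMap_Kf_eq_zero_iff]
    have h := congrFun (congrArg (ψ A) hs) p
    rw [map_mul, hw, zero_mul, AlgHom.commutes] at h
    exact h.symm
  rw [ha, map_zero] at hs
  exact (IsLocalization.map_units (FractionRing A) s).mul_left_eq_zero.mp hs

variable [IsNoetherianRing A]

theorem exists_sep (p : MinIdx A) : ∃ x : A, x ∉ p.1.asIdeal ∧ ∀ q : MinIdx A, q ≠ p → x ∈ q.1.asIdeal := by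
  classical
  have := finite_minIdx (A := A)
  have := Fintype.ofFinite (MinIdx A)
  choose c hcq hcp using fun q : {q : MinIdx A // q ≠ p} => notMem_minimal_of_ne (Ne.symm q.2)
  refine ⟨∏ q : {q : MinIdx A // q ≠ p}, c q, fun h => ?_, fun q hq => ?_⟩
  · obtain ⟨q, -, hq⟩ := Ideal.IsPrime.prod_mem_iff.mp h
    exact hcp q hq
  · exact Ideal.prod_mem _ (Finset.mem_univ (⟨q, hq⟩ : {q : MinIdx A // q ≠ p})) (hcq ⟨q, hq⟩)

theorem ψ_surjective : Function.Surjective (ψ A) := by
  classical
  have := finite_minIdx (A := A)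
  have := Fintype.ofFinite (MinIdx A)
  intro z
  choose x hx hx' using exists_sep (A := A)
  have hrep : ∀ p, ∃ a b : A, b ∉ p.1.asIdeal ∧ z p * algebraMap A (Kf A p) b = algebraMap A (Kf A p) a := fun p => by
    obtain ⟨⟨a, b, hb⟩, h⟩ := IsLocalization.surj (nonZeroDivisors (A ⧸ p.1.asIdeal)) (z p)
    obtain ⟨a, rfl⟩ := Ideal.Quotient.mk_surjective a
    obtain ⟨b, rfl⟩ := Ideal.Quotient.mk_surjective b
    exact ⟨a, b, fun hm => nonZeroDivisors.ne_zero hb (Ideal.Quotient.eq_zero_iff_mem.2 hm), h⟩
  choose a b hb hab using hrep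
  have key : ∀ (f : MinIdx A → A) (p : MinIdx A),
      algebraMap A (Kf A p) (∑ q, x q * f q) = algebraMap A (Kf A p) (x p) * algebraMap A (Kf A p) (f p) := fun f p => by
    rw [map_sum, Finset.sum_eq_single p (fun q _ hq => by
      rw [map_mul, (algebraMap_Kf_eq_zero_iff p _).mpr (hx' q p (Ne.symm hq)), zero_mul])
      (fun h => absurd (Finset.mem_univ p) h), map_mul]
  have hne : ∀ p, algebraMap A (Kf A p) (∑ q, x q * b q) ≠ 0 := fun p => by
    rw [key, mul_ne_zero_iff, Ne, Ne, algebraMap_Kf_eq_zero_iff, algebraMap_Kf_eq_zero_iff]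
    exact ⟨hx p, hb p⟩
  let s : nonZeroDivisors A := ⟨∑ q, x q * b q, mem_nonZeroDivisors_iff.mpr fun p h =>
    hne p ((algebraMap_Kf_eq_zero_iff p _).mpr h)⟩
  refine ⟨IsLocalization.mk' (FractionRing A) (∑ q, x q * a q) s, funext fun p => ?_⟩
  have h := congrFun (congrArg (ψ A) (IsLocalization.mk'_spec (FractionRing A) (∑ q, x q * a q) s)) p
  rw [map_mul, AlgHom.commutes, AlgHom.commutes] at h
  refine mul_right_cancel₀ (hne p) (h.trans ?_)
  show algebraMap A (Kf A p) (∑ q, x q * a q) = z p * algebraMap A (Kf A p) (∑ q, x q * b q)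
  rw [key, key, ← hab p]
  ring

theorem isIntegral_iff (w : FractionRing A) :
    IsIntegral A w ↔ ∀ p, IsIntegral A (ψ A w p) := by
  classical
  have := finite_minIdx (A := A)
  have := Fintype.ofFinite (MinIdx A)
  refine ⟨fun h p => h.map ((Pi.evalAlgHom A (Kf A) p).comp (ψ A)), fun h => ?_⟩
  rw [← isIntegral_algHom_iff (ψ A) ψ_injective]
  choose f hf hf0 using h
  refine ⟨∏ p, f p, Polynomial.monic_prod_of_monic _ _ fun p _ => hf p, funext fun p => ?_⟩
  show Pi.evalRingHom (Kf A) p (Polynomial.eval₂ _ (ψ A w) _) = 0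
  rw [Polynomial.hom_eval₂, Polynomial.eval₂_finsetProd]
  exact Finset.prod_eq_zero (Finset.mem_univ p) (hf0 p)

variable (A) in
/-- A component of the integral closure. -/
noncomputable def proj (p : MinIdx A) : integralClosure A (FractionRing A) →ₐ[A] Cp A p :=
  (((Pi.evalAlgHom A (Kf A) p).comp (ψ A)).comp (integralClosure A (FractionRing A)).val).codRestrict _
    fun w => (isIntegral_iff _).mp w.2 p

theorem proj_ext {v w : integralClosure A (FractionRing A)} (h : ∀ p, proj A p v = proj A p w) : v = w :=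
  Subtype.ext (ψ_injective (funext fun p => congrArg Subtype.val (h p)))

theorem exists_proj_eq (c : ∀ p, Cp A p) : ∃ w, ∀ p, proj A p w = c p := by
  obtain ⟨w, hw⟩ := ψ_surjective (A := A) fun p => (c p : Kf A p)
  have hint : IsIntegral A w := (isIntegral_iff w).mpr fun p => by rw [hw]; exact (c p).2
  exact ⟨⟨w, hint⟩, fun p => Subtype.ext (congrFun hw p)⟩

theorem finite_integralClosure (hN : CAlg.IsNagata A) : Module.Finite A (integralClosure A (FractionRing A)) := by
  have := finite_minIdx (A := A)
  have hfin : ∀ p : MinIdx A, Module.Finite A (Cp A p) := fun p => by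
    have h := hN.2 p.1.asIdeal (Kf A p) inferInstance
    have : Module.Finite A (integralClosure (A ⧸ p.1.asIdeal) (Kf A p)) :=
      Module.Finite.trans (A ⧸ p.1.asIdeal) _
    have : Algebra.IsIntegral A (A ⧸ p.1.asIdeal) := Algebra.IsIntegral.of_finite A _
    refine Module.Finite.of_injective (R := A) (M := Cp A p)
      ({ toFun := fun c => (⟨c.1, IsIntegral.tower_top (R := A) c.2⟩ : integralClosure (A ⧸ p.1.asIdeal) (Kf A p)),
         map_add' := fun _ _ => rfl, map_smul' := fun _ _ => rfl } : Cp A p →ₗ[A] integralClosure (A ⧸ p.1.asIdeal) (Kf A p))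
      fun c c' h => Subtype.ext (congrArg (fun z : integralClosure (A ⧸ p.1.asIdeal) (Kf A p) => (z : Kf A p)) h)
  exact Module.Finite.of_injective (LinearMap.pi fun p => (proj A p).toLinearMap)
    fun v w h => proj_ext fun p => congrFun h p

theorem localization_normal (P : PrimeSpectrum (integralClosure A (FractionRing A))) :
    IsDomain (Localization.AtPrime P.asIdeal) ∧ IsIntegrallyClosed (Localization.AtPrime P.asIdeal) := by
  classical
  have := finite_minIdx (A := A)
  have := Fintype.ofFinite (MinIdx A)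
  choose e he using fun p : MinIdx A => exists_proj_eq (A := A) (Pi.single p 1)
  obtain ⟨p, hp⟩ : ∃ p, e p ∉ P.asIdeal := by
    by_contra! h
    have h1 : ∑ p, e p = 1 := proj_ext fun q => by
      rw [map_sum, map_one, Finset.sum_eq_single q (fun r _ hr => by rw [he, Pi.single_eq_of_ne (Ne.symm hr)])
        (fun h => absurd (Finset.mem_univ q) h), he, Pi.single_eq_same]
    exact P.isPrime.ne_top ((Ideal.eq_top_iff_one _).mpr (h1 ▸ Ideal.sum_mem _ fun p _ => h p))
  let _ : Algebra (integralClosure A (FractionRing A)) (Cp A p) := (proj A p).toRingHom.toAlgebra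
  have hsurj : Function.Surjective (algebraMap (integralClosure A (FractionRing A)) (Cp A p)) := fun c => by
    obtain ⟨w, hw⟩ := exists_proj_eq (A := A) (Pi.single p c)
    exact ⟨w, (hw p).trans (Pi.single_eq_same _ _)⟩
  have hid : IsIdempotentElem (e p) := proj_ext fun q => by
    rw [map_mul, he]
    rcases eq_or_ne q p with rfl | h
    · rw [Pi.single_eq_same, mul_one]
    · rw [Pi.single_eq_of_ne h, zero_mul]
  have hpe : proj A p (e p) = 1 := (he p p).trans (Pi.single_eq_same _ _)
  have hker : RingHom.ker (algebraMap (integralClosure A (FractionRing A)) (Cp A p)) = Ideal.span {1 - e p} := by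
    ext v
    rw [RingHom.mem_ker, Ideal.mem_span_singleton]
    constructor
    · intro hv
      refine ⟨v, proj_ext fun q => ?_⟩
      rw [map_mul, map_sub, map_one, he]
      rcases eq_or_ne q p with rfl | h
      · rw [show proj A q v = 0 from hv, mul_zero]
      · rw [Pi.single_eq_of_ne h, sub_zero, one_mul]
    · rintro ⟨c, rfl⟩
      show proj A p ((1 - e p) * c) = 0
      rw [map_mul, map_sub, map_one, hpe, sub_self, zero_mul]
  have haway := IsLocalization.away_of_isIdempotentElem (R := integralClosure A (FractionRing A)) hid hker hsurj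
  have hdisj : Disjoint (Submonoid.powers (e p) : Set (integralClosure A (FractionRing A))) P.asIdeal := by
    rw [Set.disjoint_left]
    rintro _ ⟨m, rfl⟩ hm
    exact hp (P.isPrime.mem_of_pow_mem _ hm)
  let Q := P.asIdeal.map (algebraMap (integralClosure A (FractionRing A)) (Cp A p))
  have hQ : Q.IsPrime := IsLocalization.isPrime_of_isPrime_disjoint (Submonoid.powers (e p)) _ _ P.isPrime hdisj
  have hQc : Q.comap (algebraMap (integralClosure A (FractionRing A)) (Cp A p)) = P.asIdeal :=
    IsLocalization.under_map_of_isPrime_disjoint (Submonoid.powers (e p)) _ P.isPrime hdisj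
  have hloc : IsLocalization.AtPrime (Localization.AtPrime Q) (Q.comap (algebraMap (integralClosure A (FractionRing A)) (Cp A p))) :=
    IsLocalization.isLocalization_isLocalization_atPrime_isLocalization (Submonoid.powers (e p)) _ Q
  have hQc' : (Q.comap (algebraMap (integralClosure A (FractionRing A)) (Cp A p))).primeCompl = P.asIdeal.primeCompl :=
    SetLike.ext fun v => not_congr (SetLike.ext_iff.mp hQc v)
  have hloc' : IsLocalization P.asIdeal.primeCompl (Localization.AtPrime Q) := hQc' ▸ hloc
  let E := (IsLocalization.algEquiv P.asIdeal.primeCompl (Localization.AtPrime Q) (Localization.AtPrime P.asIdeal)).toRingEquiv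
  have hle : Q.primeCompl ≤ nonZeroDivisors (Cp A p) := Q.primeCompl_le_nonZeroDivisors
  have : IsFractionRing (Cp A p) (Kf A p) := by
    have : FaithfulSMul (Cp A p) (Kf A p) := (faithfulSMul_iff_algebraMap_injective _ _).mpr Subtype.val_injective
    refine IsFractionRing.of_field _ _ fun w => ?_
    obtain ⟨a, b, -, rfl⟩ := IsFractionRing.div_surjective (A := A ⧸ p.1.asIdeal) w
    obtain ⟨a, rfl⟩ := Ideal.Quotient.mk_surjective a
    obtain ⟨b, rfl⟩ := Ideal.Quotient.mk_surjective b
    exact ⟨algebraMap A _ a, algebraMap A _ b, rfl⟩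
  have : IsIntegrallyClosed (Cp A p) := (isIntegrallyClosed_iff (Kf A p)).mpr fun {w} hw =>
    ⟨⟨w, isIntegral_trans w hw⟩, rfl⟩
  have := isIntegrallyClosed_of_isLocalization (Localization.AtPrime Q) Q.primeCompl hle
  exact ⟨MulEquiv.isDomain _ E.symm.toMulEquiv, IsIntegrallyClosed.of_equiv (R := Localization.AtPrime Q) E⟩

end GrothLib.RedTotal
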