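import Groth.Agent.Lib.RedTotal.Delta
import Groth.Prelude.Def_Brnch
import Mathlib.RingTheory.HopkinsLevitzki
import Mathlib.RingTheory.Ideal.Quotient.Operations
import Mathlib.LinearAlgebra.FreeModule.Finite.Matrix
import Mathlib.RingTheory.LocalRing.Quotient

/-!
Geometric branches are bounded by the delta invariant.
-/

universe u

open GrothLib.SemiLoc IsLocalRing

namespace GrothLib.RedTotal

variable (A : Type u) [CommRing A]

theorem finite_minimalPrimes [IsNoetherianRing A] : (minimalPrimes A).Finite :=
  minimalPrimes.finite_of_isNoetherianRing A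

/-- The normalization of the reduction of a reduced ring is the normalization. -/
theorem exists_equiv_normRed [IsReduced A] :
    ∃ Φ : CAlg2.normRed A ≃+* integralClosure A (FractionRing A),
      ∀ a, Φ (algebraMap (CAlg2.red A) (CAlg2.normRed A) (Ideal.Quotient.mk (nilradical A) a)) =
        algebraMap A (integralClosure A (FractionRing A)) a := by
  let q : A ≃ₐ[A] CAlg2.red A :=
    AlgEquiv.ofBijective (Ideal.Quotient.mkₐ A (nilradical A))
      ⟨fun x y h => by
        rw [← sub_eq_zero]
        refine IsNilpotent.eq_zero (mem_nilradical.mp ?_)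
        exact Ideal.Quotient.eq.mp h, Ideal.Quotient.mk_surjective⟩
  let E : FractionRing (CAlg2.red A) ≃+* FractionRing A :=
    IsFractionRing.ringEquivOfRingEquiv q.symm.toRingEquiv
  have hE : ∀ a, E (algebraMap (CAlg2.red A) _ (q a)) = algebraMap A (FractionRing A) a := fun a => by
    rw [IsFractionRing.ringEquivOfRingEquiv_algebraMap]
    exact congrArg _ (q.symm_apply_apply a)
  have key : ∀ w : FractionRing (CAlg2.red A),
      IsIntegral (CAlg2.red A) w ↔ IsIntegral A (E w) := fun w => by
    let Ea : FractionRing (CAlg2.red A) ≃ₐ[A] FractionRing A :=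
      { E with
        commutes' := fun a => by
          show E _ = _
          rw [← hE a, IsScalarTower.algebraMap_apply A (CAlg2.red A) (FractionRing (CAlg2.red A))]
          rfl }
    rw [show IsIntegral A (E w) ↔ IsIntegral A w from isIntegral_algEquiv Ea]
    refine ⟨fun h => ?_, fun h => h.tower_top⟩
    have : Algebra.IsIntegral A (CAlg2.red A) := Algebra.IsIntegral.of_finite A _
    exact isIntegral_trans w h
  refine ⟨{
    toFun := fun w => ⟨E w.1, (key w.1).mp w.2⟩
    invFun := fun v => ⟨E.symm v.1, (key _).mpr (by rw [E.apply_symm_apply]; exact v.2)⟩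
    left_inv := fun w => Subtype.ext (E.symm_apply_apply w.1)
    right_inv := fun v => Subtype.ext (E.apply_symm_apply v.1)
    map_mul' := fun x y => Subtype.ext (map_mul E x.1 y.1)
    map_add' := fun x y => Subtype.ext (map_add E x.1 y.1) }, fun a => Subtype.ext (hE a)⟩

variable [IsLocalRing A] (B : Type u) [CommRing B] [Algebra A B] [Module.Finite A B] [IsNoetherianRing A]

theorem maximalIdeal_le_comap (m : MaximalSpectrum B) : m.asIdeal.comap (algebraMap A B) = maximalIdeal A :=
  have := m.isMaximal
  have : Algebra.IsIntegral A B := Algebra.IsIntegral.of_finite A B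
  eq_maximalIdeal (Ideal.isMaximal_comap_of_isIntegral_of_isMaximal m.asIdeal)

include A in
theorem finite_maximalSpectrum : Finite (MaximalSpectrum B) := by
  let I := (maximalIdeal A).map (algebraMap A B)
  let _ : Algebra (ResidueField A) (B ⧸ I) :=
    (Ideal.Quotient.lift (maximalIdeal A) ((Ideal.Quotient.mk I).comp (algebraMap A B)) fun a ha =>
      Ideal.Quotient.eq_zero_iff_mem.mpr (Ideal.mem_map_of_mem _ ha)).toAlgebra
  have : IsScalarTower A (ResidueField A) (B ⧸ I) := IsScalarTower.of_algebraMap_eq fun _ => rfl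
  have : Module.Finite (ResidueField A) (B ⧸ I) := Module.Finite.of_restrictScalars_finite A _ _
  have : IsArtinianRing (B ⧸ I) := IsArtinianRing.of_finite (ResidueField A) _
  have hle : ∀ m : MaximalSpectrum B, I ≤ m.asIdeal := fun m =>
    Ideal.map_le_iff_le_comap.mpr (maximalIdeal_le_comap A B m).ge
  refine Finite.of_injective (fun m : MaximalSpectrum B => (⟨m.asIdeal.map (Ideal.Quotient.mk I),
    haveI := m.isMaximal.isPrime; Ideal.isPrime_map_quotientMk_of_isPrime (hle m)⟩ : PrimeSpectrum (B ⧸ I)))
    fun m m' h => MaximalSpectrum.ext ?_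
  exact (Ideal.comap_map_mk (hle m)).symm.trans ((congrArg (fun P : PrimeSpectrum (B ⧸ I) =>
    P.asIdeal.comap (Ideal.Quotient.mk I)) h).trans (Ideal.comap_map_mk (hle m')))

theorem card_hom_le_length (m : MaximalSpectrum B) :
    ENat.card {σ : B ⧸ m.asIdeal →+* AlgebraicClosure (ResidueField A) //
        σ.comp (algebraMap A (B ⧸ m.asIdeal)) =
          (algebraMap (ResidueField A) (AlgebraicClosure (ResidueField A))).comp (residue A)} ≤
      Module.length A (B ⧸ m.asIdeal) := by
  have := m.isMaximal
  let _ := Ideal.Quotient.field m.asIdeal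
  let _ : Algebra (ResidueField A) (B ⧸ m.asIdeal) :=
    (Ideal.Quotient.lift (maximalIdeal A) (algebraMap A (B ⧸ m.asIdeal)) fun a ha =>
      Ideal.Quotient.eq_zero_iff_mem.mpr ((maximalIdeal_le_comap A B m).ge ha)).toAlgebra
  have : IsScalarTower A (ResidueField A) (B ⧸ m.asIdeal) := IsScalarTower.of_algebraMap_eq fun _ => rfl
  have : Module.Finite (ResidueField A) (B ⧸ m.asIdeal) := Module.Finite.of_restrictScalars_finite A _ _
  rw [Module.length_eq_of_surjective (R := ResidueField A) (S := A) (M := B ⧸ m.asIdeal)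
    (residue_surjective (R := A)), Module.length_eq_finrank]
  let e : {σ : B ⧸ m.asIdeal →+* AlgebraicClosure (ResidueField A) //
      σ.comp (algebraMap A (B ⧸ m.asIdeal)) =
        (algebraMap (ResidueField A) (AlgebraicClosure (ResidueField A))).comp (residue A)} ≃
      (B ⧸ m.asIdeal →ₐ[ResidueField A] AlgebraicClosure (ResidueField A)) :=
    { toFun := fun σ =>
        { σ.1 with
          commutes' := fun r => by
            obtain ⟨a, rfl⟩ := residue_surjective (R := A) r
            exact RingHom.congr_fun σ.2 a }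
      invFun := fun τ => ⟨τ.toRingHom, RingHom.ext fun a => τ.commutes (residue A a)⟩
      left_inv := fun σ => Subtype.ext rfl
      right_inv := fun τ => AlgHom.ext fun _ => rfl }
  have : Finite (B ⧸ m.asIdeal →ₐ[ResidueField A] AlgebraicClosure (ResidueField A)) := inferInstance
  rw [ENat.card_congr e, ENat.card_eq_coe_natCard]
  exact Nat.cast_le.mpr (card_algHom_le_finrank _ _ _)

theorem card_sigma_le {ι : Type*} [Fintype ι] (β : ι → Type*) (f : ι → ℕ∞)
    (h : ∀ i, ENat.card (β i) ≤ f i) : ENat.card (Σ i, β i) ≤ ∑ i, f i := by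
  rcases finite_or_infinite (Σ i, β i) with hf | hf
  · have : ∀ i, Finite (β i) := fun i => Finite.of_injective (Sigma.mk i) sigma_mk_injective
    rw [ENat.card_eq_coe_natCard, Nat.card_sigma, Nat.cast_sum]
    exact Finset.sum_le_sum fun i _ => ENat.card_eq_coe_natCard (β i) ▸ h i
  · obtain ⟨i, hi⟩ : ∃ i, Infinite (β i) := by
      by_contra! hc
      have : ∀ i, Finite (β i) := hc
      exact hf.not_finite inferInstance
    refine le_trans (le_top) (le_trans ?_ (Finset.single_le_sum (fun j _ => bot_le) (Finset.mem_univ i)))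
    rw [← ENat.card_eq_top_of_infinite (α := β i)]
    exact h i

theorem length_pi_le_add_one [Nontrivial B] [Fintype (MaximalSpectrum B)] :
    ∑ m : MaximalSpectrum B, Module.length A (B ⧸ m.asIdeal) ≤
      Module.length A (B ⧸ LinearMap.range (Algebra.linearMap A B)) + 1 := by
  classical
  let π : B →ₗ[A] ∀ m : MaximalSpectrum B, B ⧸ m.asIdeal :=
    LinearMap.pi fun m => (Ideal.Quotient.mkₐ A m.asIdeal).toLinearMap
  have hπ : Function.Surjective π := fun y => by
    obtain ⟨x, hx⟩ := Ideal.quotientInfToPiQuotient_surj (I := fun m : MaximalSpectrum B => m.asIdeal)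
      (fun m m' hne => Ideal.isCoprime_iff_sup_eq.mpr
        (m.isMaximal.coprime_of_ne m'.isMaximal fun h => hne (MaximalSpectrum.ext h))) y
    obtain ⟨b, rfl⟩ := Ideal.Quotient.mk_surjective x
    exact ⟨b, hx⟩
  rw [← Module.length_pi_of_fintype]
  let P := ∀ m : MaximalSpectrum B, B ⧸ m.asIdeal
  let R₀ : Submodule A P := (LinearMap.range (Algebra.linearMap A B)).map π
  have hR : R₀ = LinearMap.range (π.comp (Algebra.linearMap A B)) := (LinearMap.range_comp _ _).symm
  rw [Module.length_eq_add_of_exact R₀.subtype R₀.mkQ R₀.injective_subtype R₀.mkQ_surjective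
    (LinearMap.exact_subtype_mkQ R₀), add_comm]
  refine add_le_add ?_ ?_
  · refine Module.length_le_of_surjective (Submodule.mapQ _ R₀ π (Submodule.le_comap_map _ _)) ?_
    intro y
    obtain ⟨y, rfl⟩ := Submodule.mkQ_surjective _ y
    obtain ⟨b, rfl⟩ := hπ y
    exact ⟨Submodule.Quotient.mk b, rfl⟩
  · let g : ResidueField A →ₗ[A] R₀ := Submodule.liftQ (maximalIdeal A)
      ((π.comp (Algebra.linearMap A B)).codRestrict R₀ fun a => hR ▸ LinearMap.mem_range_self _ a)
      fun a ha => by
        refine Subtype.ext (funext fun m => ?_)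
        exact Ideal.Quotient.eq_zero_iff_mem.mpr ((maximalIdeal_le_comap A B m).ge ha)
    have hg : Function.Surjective g := by
      rintro ⟨y, hy⟩
      obtain ⟨a, rfl⟩ := hR ▸ hy
      exact ⟨residue A a, rfl⟩
    refine (Module.length_le_of_surjective g hg).trans_eq ?_
    rw [Module.length_eq_of_surjective (R := ResidueField A) (S := A) (M := ResidueField A)
      (residue_surjective (R := A)), Module.length_eq_finrank, Module.finrank_self, Nat.cast_one]

end GrothLib.RedTotal
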