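import Groth.Agent.Lib.RedTotal.Basic
import Groth.Agent.Lib.CurveRing.Multiplicity
import Groth.Prelude.Def_Curv2

/-!
Finiteness of the delta invariant.
-/

universe u

open GrothLib.SemiLoc

namespace GrothLib.RedTotal

theorem deltaInv_lt_top (A : Type u) [CommRing A] [IsReduced A] [IsNoetherianRing A]
    (hdim : ringKrullDim A ≤ 1) [Module.Finite A (integralClosure A (FractionRing A))] :
    Curv2.deltaInv A < ⊤ := by
  classical
  let M := integralClosure A (FractionRing A)
  obtain ⟨G, hG⟩ := Module.Finite.fg_top (R := A) (M := M)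
  obtain ⟨⟨d, hd⟩, hdG⟩ := IsLocalization.exist_integer_multiples (nonZeroDivisors A) G
    (fun w => (w : FractionRing A))
  have hall : ∀ w : M, d • w ∈ LinearMap.range (Algebra.linearMap A M) := by
    have h : (⊤ : Submodule A M) ≤ (LinearMap.range (Algebra.linearMap A M)).comap (d • LinearMap.id) := by
      rw [← hG, Submodule.span_le]
      intro w hw
      obtain ⟨a, ha⟩ := hdG w hw
      exact ⟨a, Subtype.ext ha⟩
    exact fun w => h trivial
  have : Ring.KrullDimLE 1 A := Ring.krullDimLE_iff.mpr hdim
  have hart : IsArtinianRing (A ⧸ Ideal.span {d}) := by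
    refine isArtinianRing_iff_isNoetherianRing_krullDimLE_zero.mpr
      ⟨inferInstance, Ring.krullDimLE_zero_iff.mpr fun P hP => ?_⟩
    have hmem : d ∈ P.comap (Ideal.Quotient.mk (Ideal.span {d})) := by
      rw [Ideal.mem_comap, Ideal.Quotient.eq_zero_iff_mem.mpr (Ideal.mem_span_singleton_self d)]
      exact P.zero_mem
    rcases Ring.krullDimLE_one_iff.mp ‹_› (P.comap (Ideal.Quotient.mk (Ideal.span {d}))) (P.comap_isPrime _) with h | h
    · exact absurd hd (notMem_nonZeroDivisors_of_mem_mem_minimalPrimes hmem h)
    · rw [← Ideal.map_comap_of_surjective _ Ideal.Quotient.mk_surjective P]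
      exact (Ideal.map_eq_top_or_isMaximal_of_surjective _ Ideal.Quotient.mk_surjective h).resolve_left (by
        rw [Ideal.map_comap_of_surjective _ Ideal.Quotient.mk_surjective P]; exact hP.ne_top)
  exact lt_top_iff_ne_top.mpr (GrothLib.CurveRing.length_quotient_ne_top hart _ hall)

end GrothLib.RedTotal
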